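import Groth.Agent.ModTensor.Flat
import Groth.Agent.ModTensor.Basic

/-!
# Internal hom of sheaves of modules against presheaves, and its pairing with a tensor product
-/

set_option autoImplicit false
set_option linter.style.haveILetI false
set_option backward.isDefEq.respectTransparency false
universe u

open CategoryTheory Limits MonoidalCategory Opposite

namespace Groth.Agent.HomTensLib

noncomputable section

open Groth.Agent.ModTensor

section Perm

variable {V : Type*} [Category V] [MonoidalCategory V] [BraidedCategory V]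

/-- Exchange of the last two factors. -/
def perm (X Y Z : V) : (X ⊗ Y) ⊗ Z ⟶ (X ⊗ Z) ⊗ Y :=
  (α_ X Y Z).hom ≫ X ◁ (β_ Y Z).hom ≫ (α_ X Z Y).inv

@[reassoc]
theorem perm_natural_left {X X' : V} (f : X ⟶ X') (Y Z : V) :
    ((f ▷ Y) ▷ Z) ≫ perm X' Y Z = perm X Y Z ≫ ((f ▷ Z) ▷ Y) := by
  simp only [perm, Category.assoc, associator_naturality_left_assoc, ← whisker_exchange_assoc,
    associator_inv_naturality_left]

@[reassoc]
theorem perm_natural_right (X Y : V) {Z Z' : V} (g : Z ⟶ Z') :
    ((X ⊗ Y) ◁ g) ≫ perm X Y Z' = perm X Y Z ≫ ((X ◁ g) ▷ Y) := by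
  simp only [perm, Category.assoc, associator_naturality_right_assoc]
  rw [← MonoidalCategory.whiskerLeft_comp_assoc, BraidedCategory.braiding_naturality_right,
    MonoidalCategory.whiskerLeft_comp_assoc, associator_inv_naturality_middle]

theorem rightUnitor_perm (X Y : V) :
    (ρ_ (X ⊗ Y)).inv ≫ perm X Y (𝟙_ V) ≫ (ρ_ X).hom ▷ Y = 𝟙 _ := by
  simp [perm]

end Perm

variable {C : Type u} [SmallCategory C] {J : GrothendieckTopology C} (O : Sheaf J CommRingCat.{u})

/-- The bijection between maps of presheaves into a sheaf and maps of sheaves. -/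
abbrev shEquiv (P : PMod O.obj) (N : ModSite.Mod O) : ((shF O).obj P ⟶ N) ≃ (P ⟶ pre O N) :=
  (PresheafOfModules.sheafificationAdjunction (𝟙 (ModSite.ringSh O).obj)).homEquiv P N

theorem shEquiv_apply {P : PMod O.obj} {N : ModSite.Mod O} (f : (shF O).obj P ⟶ N) :
    shEquiv O P N f = shUnit O P ≫ (preFunctor O).map f :=
  Adjunction.homEquiv_unit _ _ _ _

theorem shUnit_map_pre {P : PMod O.obj} {N : ModSite.Mod O} (a : P ⟶ pre O N) :
    shUnit O P ≫ (preFunctor O).map ((shEquiv O P N).symm a) = a :=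
  (shEquiv_apply O _).symm.trans ((shEquiv O P N).apply_symm_apply a)

theorem W_map_iff {P P' : PMod O.obj} (f : P ⟶ P') :
    J.W ((PresheafOfModules.toPresheaf _).map f) ↔ IsIso ((shF O).map f) := by
  refine ⟨isIso_sheafify_map O f, fun h => ?_⟩
  have e := congrArg (PresheafOfModules.toPresheaf _).map (shUnit_naturality O f)
  rw [Functor.map_comp, Functor.map_comp] at e
  refine J.W.of_postcomp _ _ (W_shUnit O P') ?_
  rw [e]
  haveI : IsIso ((preFunctor O).map ((shF O).map f)) := inferInstance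
  exact (J.W.comp_mem _ _ (W_shUnit O P) (J.W.of_isIso _))

/-- A map in `J.W` between sheaves is an isomorphism. -/
theorem isIso_of_W {M N : ModSite.Mod O} (f : M ⟶ N)
    (h : J.W ((PresheafOfModules.toPresheaf _).map ((preFunctor O).map f))) : IsIso f := by
  haveI := (W_map_iff O _).1 h
  have e : (shF O).map ((preFunctor O).map f) ≫ (sheafifyPreIso O N).hom =
      (sheafifyPreIso O M).hom ≫ f :=
    (PresheafOfModules.sheafificationAdjunction (𝟙 (ModSite.ringSh O).obj)).counit.naturality f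
  have : f = (sheafifyPreIso O M).inv ≫ (shF O).map ((preFunctor O).map f) ≫
      (sheafifyPreIso O N).hom := by
    rw [e, Iso.inv_hom_id_assoc]
  rw [this]
  infer_instance

/-- `H` with `e` represents the maps from presheaves tensored with `F` to `G`. -/
def IsHom (F G H : ModSite.Mod O) (e : pre O H ⊗ pre O F ⟶ pre O G) : Prop :=
  ∀ P : PMod O.obj, Function.Bijective fun a : P ⟶ pre O H => (a ▷ pre O F) ≫ e

/-- The evaluation map of the internal hom. -/
def evP (F : ModSite.Mod O) [ModSite.HasSheafHom F] (G : ModSite.Mod O) :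
    pre O ((ModSite.sheafHom F).obj G) ⊗ pre O F ⟶ pre O G :=
  shUnit O _ ≫ (preFunctor O).map ((ModSite.sheafHomAdj F).counit.app G)

theorem isHom_evP (F : ModSite.Mod O) [ModSite.HasSheafHom F] (G : ModSite.Mod O) :
    IsHom O F G ((ModSite.sheafHom F).obj G) (evP O F G) := by
  intro P
  let Φ := (shEquiv O P ((ModSite.sheafHom F).obj G)).symm.trans
    ((((ModSite.sheafHomAdj F).homEquiv ((shF O).obj P) G).symm).trans
      ((Iso.homCongr (sheafifyTensorRightIso O P (pre O F)).symm (Iso.refl G)).trans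
        (shEquiv O (P ⊗ pre O F) G)))
  have hΦ : (fun a : P ⟶ pre O ((ModSite.sheafHom F).obj G) => (a ▷ pre O F) ≫ evP O F G) = Φ := by
    funext a
    obtain ⟨a', rfl⟩ := (shEquiv O P ((ModSite.sheafHom F).obj G)).surjective a
    symm
    show shEquiv O (P ⊗ pre O F) G _ = _
    rw [Equiv.symm_apply_apply, Adjunction.homEquiv_counit, shEquiv_apply, shEquiv_apply]
    simp only [Iso.homCongr_apply, Iso.symm_inv, Iso.refl_hom, Category.comp_id]
    show shUnit O _ ≫ (preFunctor O).map ((shF O).map (shUnit O P ▷ pre O F) ≫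
      (shF O).map ((preFunctor O).map a' ▷ pre O F) ≫ (ModSite.sheafHomAdj F).counit.app G) = _
    rw [← Functor.map_comp_assoc, ← comp_whiskerRight, Functor.map_comp,
      ← reassoc_of% (shUnit_naturality O)]
    rfl
  rw [hΦ]
  exact Φ.bijective

theorem IsHom.ext {F G H : ModSite.Mod O} {e : pre O H ⊗ pre O F ⟶ pre O G} (h : IsHom O F G H e)
    {P : PMod O.obj} {a b : P ⟶ pre O H} (hab : (a ▷ pre O F) ≫ e = (b ▷ pre O F) ≫ e) : a = b :=
  (h P).1 hab

theorem IsHom.exists_lift {F G H : ModSite.Mod O} {e : pre O H ⊗ pre O F ⟶ pre O G}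
    (h : IsHom O F G H e) {P : PMod O.obj} (b : P ⊗ pre O F ⟶ pre O G) :
    ∃ a : P ⟶ pre O H, (a ▷ pre O F) ≫ e = b :=
  (h P).2 b

/-- The representing object is unique. -/
theorem IsHom.exists_iso {F G H H' : ModSite.Mod O} {e : pre O H ⊗ pre O F ⟶ pre O G}
    {e' : pre O H' ⊗ pre O F ⟶ pre O G} (h : IsHom O F G H e) (h' : IsHom O F G H' e') :
    ∃ c : pre O H ≅ pre O H', (c.hom ▷ pre O F) ≫ e' = e := by
  obtain ⟨a, ha⟩ := h'.exists_lift O e
  obtain ⟨b, hb⟩ := h.exists_lift O e'
  refine ⟨⟨a, b, h.ext O ?_, h'.ext O ?_⟩, ha⟩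
  · rw [comp_whiskerRight, Category.assoc, hb, ha, id_whiskerRight, Category.id_comp]
  · rw [comp_whiskerRight, Category.assoc, ha, hb, id_whiskerRight, Category.id_comp]

/-- The defining property of the comparison map. -/
def IsTau (F H : ModSite.Mod O) {G H₀ H₁ T : ModSite.Mod O}
    (e : pre O H₀ ⊗ pre O F ⟶ pre O G) (e₁ : pre O H₁ ⊗ pre O F ⟶ pre O T)
    (t : pre O G ⊗ pre O H ⟶ pre O T) (a : pre O H₀ ⊗ pre O H ⟶ pre O H₁) : Prop :=
  (a ▷ pre O F) ≫ e₁ = perm _ _ _ ≫ (e ▷ pre O H) ≫ t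

/-- The canonical comparison map. -/
def tauP (F : ModSite.Mod O) [ModSite.HasSheafHom F] (G H : ModSite.Mod O) :
    pre O ((ModSite.sheafHom F).obj G) ⊗ pre O H ⟶
      pre O ((ModSite.sheafHom F).obj (tens O G H)) :=
  ((isHom_evP O F (tens O G H)).exists_lift O
    (perm _ _ _ ≫ (evP O F G ▷ pre O H) ≫ shUnit O _)).choose

theorem tauP_spec (F : ModSite.Mod O) [ModSite.HasSheafHom F] (G H : ModSite.Mod O) :
    (tauP O F G H ▷ pre O F) ≫ evP O F (tens O G H) =
      perm _ _ _ ≫ (evP O F G ▷ pre O H) ≫ shUnit O _ :=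
  ((isHom_evP O F (tens O G H)).exists_lift O
    (perm _ _ _ ≫ (evP O F G ▷ pre O H) ≫ shUnit O _)).choose_spec

/-- `Hom(F, G) ⊗ H ⟶ Hom(F, G ⊗ H)`. -/
def tau (F : ModSite.Mod O) [ModSite.HasSheafHom F] (G H : ModSite.Mod O) :
    tens O ((ModSite.sheafHom F).obj G) H ⟶ (ModSite.sheafHom F).obj (tens O G H) :=
  (shEquiv O _ _).symm (tauP O F G H)

theorem shUnit_tau (F : ModSite.Mod O) [ModSite.HasSheafHom F] (G H : ModSite.Mod O) :
    shUnit O _ ≫ (preFunctor O).map (tau O F G H) = tauP O F G H :=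
  shUnit_map_pre O _

theorem isIso_tau_iff (F : ModSite.Mod O) [ModSite.HasSheafHom F] (G H : ModSite.Mod O) :
    IsIso (tau O F G H) ↔ J.W ((PresheafOfModules.toPresheaf _).map (tauP O F G H)) := by
  have e := congrArg (PresheafOfModules.toPresheaf _).map (shUnit_tau O F G H)
  rw [Functor.map_comp] at e
  rw [← e]
  refine ⟨fun h => J.W.comp_mem _ _ (W_shUnit O _) ?_, fun h => isIso_of_W O _ ?_⟩
  · haveI := h
    exact J.W.of_isIso _
  · exact J.W.of_precomp _ _ (W_shUnit O _) h

/-- If the canonical comparison map is invertible, then so is any other. -/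
theorem W_of_isIso_tau {F H G H₀ H₁ T : ModSite.Mod O} [ModSite.HasSheafHom F]
    (hτ : ∀ G, IsIso (tau O F G H))
    {e : pre O H₀ ⊗ pre O F ⟶ pre O G} {e₁ : pre O H₁ ⊗ pre O F ⟶ pre O T}
    {t : pre O G ⊗ pre O H ⟶ pre O T} {a : pre O H₀ ⊗ pre O H ⟶ pre O H₁}
    (he : IsHom O F G H₀ e) (he₁ : IsHom O F T H₁ e₁)
    (ht : J.W ((PresheafOfModules.toPresheaf _).map t)) (ha : IsTau O F H e e₁ t a) :
    J.W ((PresheafOfModules.toPresheaf _).map a) := by
  let d : tens O G H ≅ T :=
    @asIso _ _ _ _ ((shF O).map t) (isIso_sheafify_map O t ht) ≪≫ sheafifyPreIso O T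
  have hd : shUnit O _ ≫ (preFunctor O).map d.hom = t := by
    show shUnit O _ ≫ (preFunctor O).map ((shF O).map t ≫ (sheafifyPreIso O T).hom) = t
    rw [Functor.map_comp, ← reassoc_of% (shUnit_naturality O t)]
    exact (congrArg (t ≫ ·) ((PresheafOfModules.sheafificationAdjunction
      (𝟙 (ModSite.ringSh O).obj)).right_triangle_components T)).trans (Category.comp_id t)
  obtain ⟨c, hc⟩ := he.exists_iso O (isHom_evP O F G)
  have he₁' : IsHom O F (tens O G H) H₁ (e₁ ≫ (preFunctor O).map d.inv) := fun P => by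
    have := ((Iso.refl (P ⊗ pre O F)).homCongr ((preFunctor O).mapIso d.symm)).bijective.comp (he₁ P)
    convert this using 1
    funext b
    simp
  obtain ⟨c₁, hc₁⟩ := he₁'.exists_iso O (isHom_evP O F (tens O G H))
  have key : a ≫ c₁.hom = (c.hom ▷ pre O H) ≫ tauP O F G H := by
    refine (isHom_evP O F (tens O G H)).ext O ?_
    rw [comp_whiskerRight, Category.assoc, hc₁, comp_whiskerRight, Category.assoc, tauP_spec,
      perm_natural_left_assoc, ← comp_whiskerRight_assoc, hc, reassoc_of% ha, ← hd,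
      Category.assoc, ← Functor.map_comp, d.hom_inv_id]
    erw [CategoryTheory.Functor.map_id, Category.comp_id]
    rfl
  have e2 := congrArg (PresheafOfModules.toPresheaf _).map key
  rw [Functor.map_comp, Functor.map_comp] at e2
  refine J.W.of_postcomp _ _ (J.W.of_isIso ((PresheafOfModules.toPresheaf _).map c₁.hom)) ?_
  rw [e2]
  exact J.W.comp_mem _ _ (J.W.of_isIso ((PresheafOfModules.toPresheaf _).map (c.hom ▷ pre O H)))
    ((isIso_tau_iff O F G H).1 (hτ G))

end

end Groth.Agent.HomTensLib
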