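import Groth.Agent.HomTensLib.Basic
import Groth.Agent.FPHomLib.Main
import Mathlib.Algebra.BigOperators.Fin

/-!
# `Hom(F, G) ⊗ H ≅ Hom(F, G ⊗ H)` for globally presented `F` and flat `H`
-/

set_option autoImplicit false
set_option linter.style.haveILetI false
set_option backward.isDefEq.respectTransparency false
universe u

open CategoryTheory Limits MonoidalCategory Opposite

namespace Groth.Agent.HomTensLib

noncomputable section

open Groth.Agent.ModTensor

variable {C : Type u} [SmallCategory C] {J : GrothendieckTopology C} (O : Sheaf J CommRingCat.{u})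

/-- Contravariance of the internal hom in its first variable. -/
def hmap {A B : ModSite.Mod O} (f : A ⟶ B) (G : ModSite.Mod O) :
    (ModSite.sheafHom B).obj G ⟶ (ModSite.sheafHom A).obj G :=
  (conjugateEquiv (ModSite.sheafHomAdj B) (ModSite.sheafHomAdj A)
    ((ModSite.tensorBi O).flip.map f)).app G

theorem symm_hmap {A B : ModSite.Mod O} (f : A ⟶ B) {T G : ModSite.Mod O}
    (x : T ⟶ (ModSite.sheafHom B).obj G) :
    ((ModSite.sheafHomAdj A).homEquiv T G).symm (x ≫ hmap O f G) =
      ((ModSite.tensorBi O).obj T).map f ≫ ((ModSite.sheafHomAdj B).homEquiv T G).symm x :=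
  FPHomLib.conj_symm_apply (ModSite.sheafHomAdj B) (ModSite.sheafHomAdj A) _ x

theorem hmap_id (A G : ModSite.Mod O) : hmap O (𝟙 A) G = 𝟙 _ := by
  simp [hmap]

theorem hmap_comp {A B D : ModSite.Mod O} (f : A ⟶ B) (g : B ⟶ D) (G : ModSite.Mod O) :
    hmap O (f ≫ g) G = hmap O g G ≫ hmap O f G := by
  apply ((ModSite.sheafHomAdj A).homEquiv _ _).symm.injective
  conv_lhs => rw [← Category.id_comp (hmap O (f ≫ g) G)]
  conv_rhs => rw [← Category.id_comp (hmap O g G), Category.assoc]
  rw [symm_hmap, ← Category.assoc (𝟙 _), symm_hmap, symm_hmap, Functor.map_comp, Category.assoc]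

theorem hmap_add {A B : ModSite.Mod O} (f g : A ⟶ B) (G : ModSite.Mod O) :
    hmap O (f + g) G = hmap O f G + hmap O g G := by
  apply ((ModSite.sheafHomAdj A).homEquiv _ _).symm.injective
  rw [Adjunction.homEquiv_counit _ _ _ (_ + _), Functor.map_add, Preadditive.add_comp,
    ← Adjunction.homEquiv_counit, ← Adjunction.homEquiv_counit]
  conv_lhs => rw [← Category.id_comp (hmap O (f + g) G)]
  conv_rhs => rw [← Category.id_comp (hmap O f G), ← Category.id_comp (hmap O g G)]
  rw [symm_hmap, symm_hmap, symm_hmap, Functor.map_add, Preadditive.add_comp]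

/-- `hmap` as an additive map. -/
def hmapHom (A B G : ModSite.Mod O) :
    (A ⟶ B) →+ ((ModSite.sheafHom B).obj G ⟶ (ModSite.sheafHom A).obj G) :=
  AddMonoidHom.mk' (fun f => hmap O f G) (fun f g => hmap_add O f g G)

theorem evP_hmap {A B : ModSite.Mod O} (f : A ⟶ B) (G : ModSite.Mod O) :
    ((preFunctor O).map (hmap O f G) ▷ pre O A) ≫ evP O A G =
      (pre O ((ModSite.sheafHom B).obj G) ◁ (preFunctor O).map f) ≫ evP O B G := by
  have h : (shF O).map ((preFunctor O).map (hmap O f G) ▷ pre O A) ≫
      (ModSite.sheafHomAdj A).counit.app G =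
      (shF O).map (pre O ((ModSite.sheafHom B).obj G) ◁ (preFunctor O).map f) ≫
        (ModSite.sheafHomAdj B).counit.app G :=
    conjugateEquiv_counit (ModSite.sheafHomAdj B) (ModSite.sheafHomAdj A)
      ((ModSite.tensorBi O).flip.map f) G
  have h' := congrArg (fun k => shUnit O _ ≫ (preFunctor O).map k) h
  rw [Functor.map_comp, Functor.map_comp, ← reassoc_of% (shUnit_naturality O),
    ← reassoc_of% (shUnit_naturality O)] at h'
  exact h'

theorem tau_natural {A B : ModSite.Mod O} (f : A ⟶ B) (G H : ModSite.Mod O) :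
    ((ModSite.tensorBi O).flip.obj H).map (hmap O f G) ≫ tau O A G H =
      tau O B G H ≫ hmap O f (tens O G H) := by
  apply (shEquiv O _ _).injective
  rw [shEquiv_apply, shEquiv_apply, Functor.map_comp, Functor.map_comp]
  show shUnit O _ ≫ (preFunctor O).map ((shF O).map ((preFunctor O).map (hmap O f G) ▷ pre O H)) ≫
    (preFunctor O).map (tau O A G H) = _
  rw [← reassoc_of% (shUnit_naturality O)]
  refine ((congrArg ((preFunctor O).map (hmap O f G) ▷ pre O H ≫ ·) (shUnit_tau O A G H)).trans ?_).trans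
    (((congrArg (· ≫ (preFunctor O).map (hmap O f (tens O G H))) (shUnit_tau O B G H)).symm).trans
      (Category.assoc _ _ _))
  refine (isHom_evP O A (tens O G H)).ext O ?_
  rw [comp_whiskerRight, comp_whiskerRight, Category.assoc, Category.assoc, tauP_spec, evP_hmap,
    perm_natural_left_assoc, ← comp_whiskerRight_assoc, evP_hmap, comp_whiskerRight, Category.assoc,
    ← whisker_exchange_assoc, tauP_spec, perm_natural_right_assoc]

theorem isIso_tau_unit (G H : ModSite.Mod O) : IsIso (tau O (ModSite.unit O) G H) := by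
  let θ : ∀ G' : ModSite.Mod O, pre O ((ModSite.sheafHom (ModSite.unit O)).obj G') ⟶ pre O G' :=
    fun G' => (ρ_ (pre O ((ModSite.sheafHom (ModSite.unit O)).obj G'))).inv ≫
      evP O (ModSite.unit O) G'
  have hev : ∀ G', evP O (ModSite.unit O) G' =
      (ρ_ (pre O ((ModSite.sheafHom (ModSite.unit O)).obj G'))).hom ≫ θ G' := fun G' =>
    (Iso.hom_inv_id_assoc _ _).symm
  have hθ : ∀ G', IsIso (θ G') := fun G' => by
    obtain ⟨a, ha⟩ := (isHom_evP O (ModSite.unit O) G').exists_lift O (ρ_ (pre O G')).hom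
    refine ⟨a, (isHom_evP O (ModSite.unit O) G').ext O ?_, ?_⟩
    · rw [comp_whiskerRight, Category.assoc, ha, id_whiskerRight, Category.id_comp, hev G']
      exact rightUnitor_naturality _
    · show a ≫ (ρ_ _).inv ≫ evP O (ModSite.unit O) G' = 𝟙 _
      rw [rightUnitor_inv_naturality_assoc]
      exact (congrArg ((ρ_ (pre O G')).inv ≫ ·) ha).trans (Iso.inv_hom_id _)
  rw [isIso_tau_iff]
  have key : tauP O (ModSite.unit O) G H ≫ θ (tens O G H) = (θ G ▷ pre O H) ≫ shUnit O _ := by
    show tauP O (ModSite.unit O) G H ≫ (ρ_ _).inv ≫ evP O (ModSite.unit O) _ = _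
    rw [rightUnitor_inv_naturality_assoc]
    refine (congrArg ((ρ_ _).inv ≫ ·) (tauP_spec O (ModSite.unit O) G H)).trans ?_
    rw [hev G, comp_whiskerRight, Category.assoc]
    exact (reassoc_of% (rightUnitor_perm (pre O ((ModSite.sheafHom (ModSite.unit O)).obj G))
      (pre O H))) _
  haveI := hθ (tens O G H)
  haveI := hθ G
  refine J.W.of_postcomp _ _ (J.W.of_isIso ((PresheafOfModules.toPresheaf _).map (θ (tens O G H)))) ?_
  rw [← Functor.map_comp, key, Functor.map_comp]
  exact J.W.comp_mem _ _ (J.W.of_isIso ((PresheafOfModules.toPresheaf _).map (θ G ▷ pre O H)))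
    (W_shUnit O _)

open scoped Classical in
theorem isIso_tau_free (ι : Type u) [Finite ι] (G H : ModSite.Mod O) :
    IsIso (tau O (SheafOfModules.free ι : ModSite.Mod O) G H) := by
  haveI := Fintype.ofFinite ι
  let B : ModSite.Mod O := SheafOfModules.free ι
  let U := ModSite.unit O
  let j : ι → (U ⟶ B) := fun i => Sigma.ι (fun _ : ι => U) i
  let q : ι → (B ⟶ U) := fun i => Sigma.desc fun k => if k = i then 𝟙 U else 0
  have hsum : ∑ i, q i ≫ j i = 𝟙 B := by
    refine Sigma.hom_ext _ _ fun k => ?_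
    rw [Preadditive.comp_sum, Finset.sum_eq_single k]
    · rw [Sigma.ι_desc_assoc, if_pos rfl]
      exact (Category.id_comp _).trans (Category.comp_id _).symm
    · intro b _ hb
      rw [Sigma.ι_desc_assoc, if_neg (Ne.symm hb), zero_comp]
    · exact fun h => absurd (Finset.mem_univ k) h
  have hs : ∀ G', ∑ i, hmap O (j i) G' ≫ hmap O (q i) G' = 𝟙 _ := fun G' => by
    simp only [← hmap_comp]
    exact ((map_sum (hmapHom O B B G') (fun i => q i ≫ j i) _).symm.trans
      (congrArg _ hsum)).trans (hmap_id O B G')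
  haveI := fun G' => isIso_tau_unit O G' H
  let L := (ModSite.tensorBi O).flip.obj H
  refine ⟨∑ i, hmap O (j i) (tens O G H) ≫ inv (tau O U G H) ≫ L.map (hmap O (q i) G), ?_, ?_⟩
  · rw [Preadditive.comp_sum]
    have : ∀ i, tau O B G H ≫ hmap O (j i) (tens O G H) ≫ inv (tau O U G H) ≫
        L.map (hmap O (q i) G) = L.map (hmap O (j i) G ≫ hmap O (q i) G) := fun i => by
      rw [← reassoc_of% (tau_natural O (j i) G H), IsIso.hom_inv_id_assoc, ← Functor.map_comp]
    rw [Finset.sum_congr rfl (fun i _ => this i), ← Functor.map_sum, hs]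
    exact CategoryTheory.Functor.map_id _ _
  · rw [Preadditive.sum_comp]
    have : ∀ i, (hmap O (j i) (tens O G H) ≫ inv (tau O U G H) ≫ L.map (hmap O (q i) G)) ≫
        tau O B G H = hmap O (j i) (tens O G H) ≫ hmap O (q i) (tens O G H) := fun i => by
      rw [Category.assoc, Category.assoc, tau_natural, IsIso.inv_hom_id_assoc]
    rw [Finset.sum_congr rfl (fun i _ => this i), hs]

theorem isIso_tau_of_presentation {F H : ModSite.Mod O} (P : SheafOfModules.Presentation F)
    [P.IsFinite] (hH : ModSite.IsFlat H) (G : ModSite.Mod O) : IsIso (tau O F G H) := by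
  haveI : Finite P.generators.I := SheafOfModules.GeneratingSections.IsFiniteType.finite
  haveI : Finite P.relations.I := SheafOfModules.GeneratingSections.IsFiniteType.finite
  let A : ModSite.Mod O := SheafOfModules.free P.relations.I
  let B : ModSite.Mod O := SheafOfModules.free P.generators.I
  let π : B ⟶ F := P.generators.π
  let r : A ⟶ B := P.relations.π ≫ kernel.ι P.generators.π
  have w : r ≫ π = 0 := by simp [r, π]
  haveI : Epi π := inferInstanceAs (Epi P.generators.π)
  have hex : (ShortComplex.mk r π w).Exact := by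
    rw [ShortComplex.exact_iff_epi_kernel_lift]
    have h : kernel.lift π r w = P.relations.π := by
      rw [← cancel_mono (kernel.ι π), kernel.lift_ι]
    show Epi (kernel.lift π r w)
    rw [h]
    infer_instance
  let u := (ModSite.tensorBi O).flip.map r
  let p := (ModSite.tensorBi O).flip.map π
  have hup : u ≫ p = 0 := by
    ext T : 2
    show ((ModSite.tensorBi O).obj T).map r ≫ ((ModSite.tensorBi O).obj T).map π = _
    rw [← Functor.map_comp, w, Functor.map_zero]
    rfl
  have hpc : ∀ T, PreservesFiniteColimits ((ModSite.tensorBi O).obj T) := fun T =>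
    (preservesColimitsOfSize_shrink.{0, u, 0, u} ((ModSite.tensorBi O).obj T)) |> fun _ =>
      ⟨fun _ _ _ => inferInstance⟩
  have hp : ∀ T, Epi (p.app T) := fun T => by
    haveI := hpc T
    show Epi (((ModSite.tensorBi O).obj T).map π)
    infer_instance
  have hcok : ∀ (T G : ModSite.Mod O) (a : ((ModSite.tensorBi O).flip.obj B).obj T ⟶ G),
      u.app T ≫ a = 0 → ∃ b, p.app T ≫ b = a := fun T G a ha => by
    haveI := hpc T
    let S := (ShortComplex.mk r π w).map ((ModSite.tensorBi O).obj T)
    have hS : S.Exact := hex.map_of_epi_of_preservesCokernel _ inferInstance inferInstance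
    haveI : Epi S.g := hp T
    exact ⟨hS.desc a ha, hS.g_desc a ha⟩
  have hlx : ∀ G, ∃ w : hmap O π G ≫ hmap O r G = 0, Mono (hmap O π G) ∧
      (ShortComplex.mk _ _ w).Exact := fun G =>
    FPHomLib.leftExact_rightAdjoints (ModSite.sheafHomAdj A) (ModSite.sheafHomAdj B)
      (ModSite.sheafHomAdj F) u p hup hp hcok G fun T => FPHomLib.conj_zero O A T G
  let L := (ModSite.tensorBi O).flip.obj H
  haveI : PreservesFiniteLimits L := hH.1
  haveI : PreservesFiniteColimits L := hH.2
  obtain ⟨w₁, hm₁, hx₁⟩ := hlx G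
  obtain ⟨w₂, hm₂, -⟩ := hlx (tens O G H)
  let S₁ := (ShortComplex.mk _ _ w₁).map L
  let S₂ := ShortComplex.mk _ _ w₂
  let φ : S₁ ⟶ S₂ :=
    { τ₁ := tau O F G H
      τ₂ := tau O B G H
      τ₃ := tau O A G H
      comm₁₂ := (tau_natural O π G H).symm
      comm₂₃ := (tau_natural O r G H).symm }
  haveI : IsIso φ.τ₂ := isIso_tau_free O _ G H
  haveI : IsIso φ.τ₃ := isIso_tau_free O _ G H
  haveI : Mono S₁.f := by
    haveI := hm₁
    exact inferInstanceAs (Mono (L.map (hmap O π G)))
  haveI : Mono S₂.f := hm₂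
  exact FPHomLib.isIso_τ₁ φ (hx₁.map L)

end

end Groth.Agent.HomTensLib
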