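import Groth.Agent.HomTensLib.Free

/-!
# `Hom(F, G) ⊗ H ≅ Hom(F, G ⊗ H)` for finitely presented `F` and flat `H`
-/

set_option autoImplicit false
set_option linter.style.haveILetI false
set_option backward.isDefEq.respectTransparency false
universe u

open CategoryTheory Limits MonoidalCategory Opposite

namespace Groth.Agent.HomTensLib

noncomputable section

open Groth.Agent.ModTensor Groth.Agent.SiteBase.ExtZeroPre

section Res

variable {C : Type u} [SmallCategory C] (R : Cᵒᵖ ⥤ CommRingCat.{u}) (U : C)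

theorem perm_res (X Y Z : CMod R) :
    (Functor.LaxMonoidal.μ (resC R U) X Y ▷ (resC R U).obj Z) ≫
        Functor.LaxMonoidal.μ (resC R U) (X ⊗ Y) Z ≫ (resC R U).map (perm X Y Z) =
      perm _ _ _ ≫ (Functor.LaxMonoidal.μ (resC R U) X Z ▷ (resC R U).obj Y) ≫
        Functor.LaxMonoidal.μ (resC R U) (X ⊗ Z) Y := by
  ext1
  exact ModuleCat.MonoidalCategory.tensor_ext₃' fun _ _ _ => rfl

end Res

variable {C : Type u} [SmallCategory C] {J : GrothendieckTopology C} (O : Sheaf J CommRingCat.{u}) (U : C)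

theorem W_res {P P' : CMod O.obj} (f : P ⟶ P')
    (hf : J.W ((PresheafOfModules.toPresheaf _).map f)) :
    (J.over U).W ((PresheafOfModules.toPresheaf _).map ((resC O.obj U).map f)) := by
  have h := (J.W_iff_isLocallyBijective _).1 hf
  haveI := h.1
  haveI := h.2
  rw [(J.over U).W_iff_isLocallyBijective]
  exact ⟨Presheaf.isLocallyInjective_whisker (J.over U) J (Over.forget U)
      ((PresheafOfModules.toPresheaf _).map f),
    Presheaf.isLocallySurjective_whisker (J.over U) J (Over.forget U)
      ((PresheafOfModules.toPresheaf _).map f)⟩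

/-- Restriction of a pairing. -/
def resPair {A B D : ModSite.Mod O} (e : pre O A ⊗ pre O B ⟶ pre O D) :
    pre (O.over U) ((ModSite.restr O U).obj A) ⊗ pre (O.over U) ((ModSite.restr O U).obj B) ⟶
      pre (O.over U) ((ModSite.restr O U).obj D) :=
  Functor.LaxMonoidal.μ (resC O.obj U) (pre O A) (pre O B) ≫ (resC O.obj U).map e

theorem isHom_res {F G H : ModSite.Mod O} {e : pre O H ⊗ pre O F ⟶ pre O G}
    (h : IsHom O F G H e) :
    IsHom (O.over U) ((ModSite.restr O U).obj F) ((ModSite.restr O U).obj G)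
      ((ModSite.restr O U).obj H) (resPair O U e) := by
  intro P
  change CMod (overC O.obj U) at P
  let Φ : (P ⟶ (resC O.obj U).obj (pre O H)) ≃
      (P ⊗ (resC O.obj U).obj (pre O F) ⟶ (resC O.obj U).obj (pre O G)) :=
    ((jAdjC O.obj U).homEquiv P (pre O H)).symm.trans
      ((Equiv.ofBijective _ (h ((jC O.obj U).obj P))).trans
        ((Iso.homCongr (projIso P (pre O F)).symm (Iso.refl _)).trans
          ((jAdjC O.obj U).homEquiv _ _)))
  have hΦ : (fun a : P ⟶ (resC O.obj U).obj (pre O H) => (a ▷ (resC O.obj U).obj (pre O F)) ≫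
      resPair O U e) = Φ := by
    funext a
    obtain ⟨a', rfl⟩ := ((jAdjC O.obj U).homEquiv P (pre O H)).surjective a
    symm
    show (jAdjC O.obj U).homEquiv _ _ ((Iso.homCongr (projIso P (pre O F)).symm (Iso.refl _))
      (((((jAdjC O.obj U).homEquiv P (pre O H)).symm ((jAdjC O.obj U).homEquiv P (pre O H) a')) ▷ pre O F) ≫ e)) = _
    rw [Equiv.symm_apply_apply]
    simp only [Iso.homCongr_apply, Iso.symm_inv, Iso.refl_hom, Category.comp_id]
    show (jAdjC O.obj U).homEquiv _ _ (projMap P (pre O F) ≫ _) = _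
    rw [projMap, (jAdjC O.obj U).homEquiv_naturality_right, Equiv.apply_symm_apply, Category.assoc,
      Functor.map_comp, ← Functor.LaxMonoidal.μ_natural_left_assoc, ← comp_whiskerRight_assoc,
      Adjunction.homEquiv_unit]
    rfl
  exact (congrArg Function.Bijective hΦ).mpr Φ.bijective

theorem isTau_res {F H G H₀ H₁ T : ModSite.Mod O}
    {e : pre O H₀ ⊗ pre O F ⟶ pre O G} {e₁ : pre O H₁ ⊗ pre O F ⟶ pre O T}
    {t : pre O G ⊗ pre O H ⟶ pre O T} {a : pre O H₀ ⊗ pre O H ⟶ pre O H₁}
    (ha : IsTau O F H e e₁ t a) :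
    IsTau (O.over U) ((ModSite.restr O U).obj F) ((ModSite.restr O U).obj H) (resPair O U e)
      (resPair O U e₁) (resPair O U t) (resPair O U a) := by
  show ((Functor.LaxMonoidal.μ (resC O.obj U) (pre O H₀) (pre O H) ≫ (resC O.obj U).map a) ▷
      (resC O.obj U).obj (pre O F)) ≫ Functor.LaxMonoidal.μ (resC O.obj U) _ _ ≫
        (resC O.obj U).map e₁ = perm _ _ _ ≫
    ((Functor.LaxMonoidal.μ (resC O.obj U) (pre O H₀) (pre O F) ≫ (resC O.obj U).map e) ▷
      (resC O.obj U).obj (pre O H)) ≫ Functor.LaxMonoidal.μ (resC O.obj U) _ _ ≫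
        (resC O.obj U).map t
  rw [comp_whiskerRight, Category.assoc, Functor.LaxMonoidal.μ_natural_left_assoc,
    ← Functor.map_comp, ha, Functor.map_comp, reassoc_of% (perm_res O.obj U), comp_whiskerRight,
    Category.assoc, Functor.LaxMonoidal.μ_natural_left_assoc, ← Functor.map_comp]

theorem W_resPair {A B D : ModSite.Mod O} {e : pre O A ⊗ pre O B ⟶ pre O D}
    (he : J.W ((PresheafOfModules.toPresheaf _).map e)) :
    (J.over U).W ((PresheafOfModules.toPresheaf _).map (resPair O U e)) := by
  have h := W_res O U e he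
  unfold resPair
  erw [Functor.map_comp]
  exact (J.over U).W.comp_mem _ _ ((J.over U).W.of_isIso ((PresheafOfModules.toPresheaf _).map
    (Functor.LaxMonoidal.μ (resC O.obj U) (pre O A) (pre O B)))) h

theorem isIso_restr_tau {F G H : ModSite.Mod O} [ModSite.HasSheafHom F]
    (P : SheafOfModules.Presentation ((ModSite.restr O U).obj F)) [P.IsFinite]
    (hH : ModSite.IsFlat ((ModSite.restr O U).obj H)) :
    IsIso ((ModSite.restr O U).map (tau O F G H)) := by
  have h := W_of_isIso_tau (O.over U) (F := (ModSite.restr O U).obj F)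
    (H := (ModSite.restr O U).obj H) (fun G' => isIso_tau_of_presentation (O.over U) P hH G')
    (isHom_res O U (isHom_evP O F G)) (isHom_res O U (isHom_evP O F (tens O G H)))
    (W_resPair O U (W_shUnit O _)) (isTau_res O U (tauP_spec O F G H))
  refine isIso_of_W (O.over U) _ ?_
  have e : resPair O U (shUnit O (pre O ((ModSite.sheafHom F).obj G) ⊗ pre O H)) ≫
      (preFunctor (O.over U)).map ((ModSite.restr O U).map (tau O F G H)) =
      resPair O U (tauP O F G H) := by
    show (_ ≫ (resC O.obj U).map (shUnit O _)) ≫ (resC O.obj U).map ((preFunctor O).map _) =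
      _ ≫ (resC O.obj U).map (tauP O F G H)
    rw [Category.assoc, ← Functor.map_comp]
    exact congrArg (fun k => Functor.LaxMonoidal.μ (resC O.obj U) _ _ ≫ (resC O.obj U).map k)
      (shUnit_tau O F G H)
  rw [← e, Functor.map_comp] at h
  exact (J.over U).W.of_precomp _ _ (W_resPair O U (W_shUnit O _)) h

theorem isIso_tau {F G H : ModSite.Mod O} [SheafOfModules.IsFinitePresentation (R := ModSite.ringSh O) F]
    [ModSite.HasSheafHom F] (hres : ∀ W, ModSite.IsFlat ((ModSite.restr O W).obj H)) :
    IsIso (tau O F G H) := by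
  set φ := tau O F G H with hφdef
  have hloc : ∀ X : C, ∃ S ∈ J X, ∀ ⦃W : C⦄ (g : W ⟶ X), S g →
      Function.Bijective (φ.val.app (op W)).hom := by
    intro X
    obtain ⟨S, hS, h⟩ := FPLocal.exists_sieve_presentation (R := ModSite.ringSh O) F X
    refine ⟨S, hS, fun W g hg => ?_⟩
    obtain ⟨P, hP⟩ := h g hg
    haveI : SheafOfModules.Presentation.IsFinite (M := (ModSite.restr O W).obj F) P := hP
    haveI : IsIso ((ModSite.restr O W).map φ) := isIso_restr_tau O W P (hres W)
    exact ConcreteCategory.bijective_of_isIso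
      (((SheafOfModules.forget _ ⋙ PresheafOfModules.evaluation _ (op (Over.mk (𝟙 W)))).map
        ((ModSite.restr O W).map φ)))
  refine FPLocal.isIso_of_locally φ (fun V n => ?_) (fun V m hm => ?_)
  · obtain ⟨S, hS, h⟩ := hloc V
    exact ⟨S, hS, fun W g hg => (h g hg).2 _⟩
  · obtain ⟨S, hS, h⟩ := hloc V
    refine ⟨S, hS, fun W g hg => (h g hg).1 ?_⟩
    exact (FPLocal.app_mres φ g m).trans
      ((congrArg _ hm).trans ((map_zero _).trans (map_zero _).symm))

end

end Groth.Agent.HomTensLib
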